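import Groth.Agent.UnipP26.Basic
import Groth.Agent.ConjConst26.RedCentre
import Groth.Agent.MaxTorImg10.TorusUnip
import Groth.Agent.S3917

/-! The centre of a reductive group contains no finite unipotent subgroup. -/

set_option linter.style.haveILetI false
set_option autoImplicit false
set_option backward.isDefEq.respectTransparency.types false
set_option maxHeartbeats 800000
set_option synthInstance.maxHeartbeats 200000

universe u

open CategoryTheory CategoryTheory.Limits MonoidalCategory CartesianMonoidalCategory MonObj GrpObj AlgebraicGeometry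
open Groth.Agent.SGA3cLib CoactBr

namespace Groth.Agent.UnipP26

/-- The centre of a reductive group over a field contains no non-trivial finite unipotent subgroup. -/
theorem eq_counit_of_mono {k : Type u} [Field k]
    {G : Over (Spec (CommRingCat.of k))} [GrpObj G] (hG : Red.IsReductive G)
    {Z : Over (Spec (CommRingCat.of k))} [GrpObj Z] (z : Z ⟶ G) (hz : Red.IsCentre z)
    {B : Type u} [CommRing B] [HopfAlgebra k B] [Module.Finite k B] (hB : HopfRep.IsUnipotent k B)
    (φ : (Spec (CommRingCat.of B)).asOver (Spec (CommRingCat.of k)) ⟶ Z) [IsMonHom φ] [Mono φ] (b : B) :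
    b = algebraMap k B (CoalgebraStruct.counit (R := k) b) := by
  haveI := hG.1
  haveI := hG.2.1
  haveI := hz.1
  haveI := hz.2.1
  let s : ↥(Spec (CommRingCat.of k)) := IsLocalRing.closedPoint k
  let ω := Red.geomPt s
  let F := Over.pullback ω
  haveI : F.IsRightAdjoint := (Over.mapPullbackAdj _).isRightAdjoint
  have hGs := hG.2.2 s
  haveI : IsAffine (Red.geomFibre s G).left := hGs.1
  haveI : Smooth (Red.geomFibre s G).hom := hGs.2.1
  haveI : ConnectedSpace (Red.geomFibre s G).left := hGs.2.2.1
  obtain ⟨T, gT, i, hT⟩ := Groth.Agent.ConjConst26.RedCentre.exists_maximalTorus (G := Red.geomFibre s G)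
  haveI := hT.1
  haveI := hT.2.1
  have hKK := Groth.Agent.Luna12.isCentralizerOf_self hGs (Groth.Agent.HMTor29.MaxTorus.isMaxTorus hT)
  let U : Over (Spec (CommRingCat.of k)) := sp k B
  let φ' : U ⟶ Z := φ
  haveI : IsMonHom φ' := (inferInstance : IsMonHom φ)
  haveI : Mono φ' := (inferInstance : Mono φ)
  haveI : LocallyOfFinitePresentation U.hom := by
    refine (HasRingHomProperty.Spec_iff (P := @LocallyOfFinitePresentation)).2 ?_
    exact RingHom.finitePresentation_algebraMap.2 ((Algebra.FinitePresentation.of_finiteType).1 inferInstance)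
  let u : Red.bc ω U ⟶ Red.geomFibre s G := F.map (φ' ≫ z)
  haveI : IsMonHom u := inferInstanceAs (IsMonHom ((Over.pullback ω).map (φ' ≫ z)))
  haveI : Mono (φ' ≫ z) := mono_comp _ _
  haveI : Mono u := inferInstanceAs (Mono (F.map (φ' ≫ z)))
  have hcomm := (hz.2.2 Z z).1 ⟨𝟙 Z, Category.id_comp z⟩
  obtain ⟨t, ht⟩ := (hKK.2.2 _ u).2 fun X' x h => by
    obtain ⟨x', rfl⟩ := (BCPoints.pt ω U X').surjective x
    obtain ⟨g', hg'⟩ := (BCPoints.pt ω G X').surjective (h ≫ i)
    show BCPoints.pt ω U X' x' ≫ F.map (φ' ≫ z) * _ = _ * BCPoints.pt ω U X' x' ≫ F.map (φ' ≫ z)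
    rw [← hg', ← BCPoints.pt_comp]
    have h1 := congrArg (BCPoints.pt ω G X') (hcomm _ (x' ≫ φ') g')
    rw [BCPoints.pt_mul, BCPoints.pt_mul, Category.assoc] at h1
    exact h1
  haveI : Mono (t ≫ i) := by rw [ht]; infer_instance
  haveI : Mono t := mono_of_mono t i
  haveI : IsMonHom t := BCPoints.isMonHom_of_mul t fun X x y => by
    rw [← cancel_mono i]
    simp only [Category.assoc, ht, MonObj.mul_comp]
  have hTm := Groth.Agent.MultExt26.isMultTypeFT_of_torus T hT.2.2.1
  haveI := Groth.Agent.SGA3cLib.TrivLocus.locallyOfFinitePresentation_of_multTypeFT _ hTm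
  haveI : LocallyOfFinitePresentation (Red.bc ω U).hom :=
    MorphismProperty.pullback_snd (P := @LocallyOfFinitePresentation) _ _ inferInstance
  haveI : IsAffine U.left := inferInstanceAs (IsAffine (Spec (CommRingCat.of B)))
  haveI : QuasiCompact (Red.bc ω U).hom :=
    MorphismProperty.pullback_snd (P := @QuasiCompact) _ _ inferInstance
  haveI : QuasiCompact t.left := by
    haveI : QuasiCompact (t.left ≫ T.hom) := by rw [Over.w]; infer_instance
    haveI : IsSeparated T.hom := Groth.Agent.SGA3xLib.isSeparated_of_grpObj T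
    exact QuasiCompact.of_comp t.left T.hom
  have hmult : SGA3x.IsMultTypeFT (Red.bc ω U) :=
    Groth.Agent.S19598.result (Red.bc ω U) T hTm t (isClosedImmersion_of_mono t) inferInstance inferInstance
  have hid := Groth.Agent.SGA3xLib.RedCentre26.eq_one_of_unipotent ω hB (Red.bc ω U) hmult (𝟙 _)
  have hid' : F.map (𝟙 U) = F.map (1 : U ⟶ U) := by
    rw [F.map_id]
    exact hid.trans (Functor.map_one F).symm
  haveI : Flat ω := inferInstance
  haveI : Surjective ω := ⟨fun y => ⟨IsLocalRing.closedPoint _, Subsingleton.elim (α := PrimeSpectrum k) _ _⟩⟩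
  haveI : Flat (pullback.fst U.hom ω) := MorphismProperty.pullback_fst _ _ inferInstance
  haveI : Surjective (pullback.fst U.hom ω) := MorphismProperty.pullback_fst _ _ inferInstance
  haveI := Flat.epi_of_flat_of_surjective (pullback.fst U.hom ω)
  have h1 : (𝟙 U : U ⟶ U).left = (1 : U ⟶ U).left := by
    rw [← cancel_epi (pullback.fst U.hom ω)]
    have := congrArg (fun φ => Over.Hom.left φ ≫ pullback.fst U.hom ω) hid'
    exact (pullback.lift_fst _ _ _).symm.trans (this.trans (pullback.lift_fst _ _ _))
  have h2 : Spec.map (CommRingCat.ofHom (RingHom.id B)) =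
      Spec.map (CommRingCat.ofHom ((algebraMap k B).comp (Bialgebra.counitAlgHom k B : B →+* k))) := by
    rw [CommRingCat.ofHom_comp, Spec.map_comp, CommRingCat.ofHom_id, Spec.map_id]
    exact h1
  exact RingHom.congr_fun (congrArg CommRingCat.Hom.hom (Spec.map_injective h2)) b

end Groth.Agent.UnipP26
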