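import Groth.Agent.HopfQuot.UnipotentCrit
import Groth.Prelude.Def_AlphaP
import Groth.Prelude.Def_ConstGrp

/-! In characteristic p, α_p and the constant group ℤ/p are unipotent. -/

set_option autoImplicit false
set_option maxHeartbeats 800000

universe u

open HopfRep TensorProduct Groth.Agent.HopfLib

namespace Groth.Agent.UnipP26

open Groth.Agent.HopfQuot

variable (p : ℕ) [hp : Fact p.Prime] (k : Type u) [Field k] [CharP k p]

/-- α_p is unipotent. -/
theorem isUnipotent_alphaP : IsUnipotent k (AlphaP.A p k) := by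
  have key : ∀ i : ℕ, AlphaP.x p k ^ i ∈ socFil k (AlphaP.A p k) (i + 1) := fun i => by
    induction i using Nat.strong_induction_on with
    | _ i ih =>
      rw [mem_socFil_succ]
      intro g hg
      rw [hit_regular, show CoalgebraStruct.comul (R := k) (AlphaP.x p k ^ i) =
        (AlphaP.x p k ⊗ₜ[k] (1 : AlphaP.A p k) + (1 : AlphaP.A p k) ⊗ₜ[k] AlphaP.x p k) ^ i by
          rw [Bialgebra.comul_pow]; exact congrArg (· ^ i) (AlphaP.comul_x p k), add_pow, map_sum]
      refine Submodule.sum_mem _ fun j hj => ?_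
      rw [Algebra.TensorProduct.tmul_pow, Algebra.TensorProduct.tmul_pow, Algebra.TensorProduct.tmul_mul_tmul,
        ← nsmul_eq_mul', map_nsmul, sliceR_tmul, one_pow, one_pow, mul_one, one_mul]
      refine Submodule.smul_of_tower_mem _ _ ?_
      rcases (Nat.le_of_lt_succ (Finset.mem_range.1 hj)).eq_or_lt with h | h
      · subst h; simp [hg]
      · exact Submodule.smul_mem _ _ (socFil_mono (Nat.succ_le_of_lt h) (ih j h))
  refine isUnipotent_iff_forall_mem_socFil.2 fun a => ?_
  obtain ⟨f, rfl⟩ := AlphaP.mk_surjective p k a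
  refine ⟨f.natDegree, ?_⟩
  rw [← AlphaP.aeval_x, Polynomial.aeval_eq_sum_range]
  exact Submodule.sum_mem _ fun i hi => Submodule.smul_mem _ _
    (socFil_mono (by have := Finset.mem_range.1 hi; omega) (key i))

local notation "G₀" => Multiplicative (ZMod p)

/-- Translation of functions. -/
def transl (b : G₀) : ConstGrp.F k G₀ →ₗ[k] ConstGrp.F k G₀ where
  toFun a := fun h => a (h * b)
  map_add' _ _ := rfl
  map_smul' _ _ := rfl

@[simp] theorem transl_apply (b : G₀) (a : ConstGrp.F k G₀) (h : G₀) : transl p k b a h = a (h * b) := rfl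

theorem hit_constGrp (g : ConstGrp.F k G₀ →ₗ[k] k) :
    hit (V := ConstGrp.F k G₀) g = ∑ b : G₀, g (ConstGrp.e k b) • transl p k b := by
  refine ConstGrp.linearMap_ext fun c => ?_
  rw [hit_regular, show CoalgebraStruct.comul (R := k) (ConstGrp.e k c) =
    ∑ a : G₀, ConstGrp.e k a ⊗ₜ[k] ConstGrp.e k (a⁻¹ * c) from ConstGrp.comulLin_e k G₀ c, map_sum]
  simp only [sliceR_tmul, LinearMap.coe_sum, Finset.sum_apply, LinearMap.smul_apply]
  ext h
  rw [ConstGrp.sum_apply, ConstGrp.sum_apply, Finset.sum_eq_single h, Finset.sum_eq_single (h⁻¹ * c)]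
  · simp only [ConstGrp.smul_apply, transl_apply, ConstGrp.e_apply_self, mul_inv_cancel_left]
  · intro b _ hb
    simp only [ConstGrp.smul_apply, transl_apply]
    rw [ConstGrp.e_apply_of_ne (fun e => hb (by rw [← e, inv_mul_cancel_left])), mul_zero]
  · intro h'; exact absurd (Finset.mem_univ _) h'
  · intro a _ ha
    rw [ConstGrp.smul_apply, ConstGrp.e_apply_of_ne (Ne.symm ha), mul_zero]
  · intro h'; exact absurd (Finset.mem_univ _) h'

/-- ℤ/p is unipotent. -/
theorem isUnipotent_constZMod : IsUnipotent k (ConstGrp.F k G₀) := by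
  let σ : G₀ := Multiplicative.ofAdd 1
  let T : Module.End k (ConstGrp.F k G₀) := transl p k σ
  let D : Module.End k (ConstGrp.F k G₀) := T - 1
  have hpow : ∀ n : ℕ, T ^ n = transl p k (σ ^ n) := fun n => by
    induction n with
    | zero => refine LinearMap.ext fun a => funext fun h => ?_; rw [transl_apply, pow_zero, pow_zero, mul_one]; rfl
    | succ n ih =>
      rw [pow_succ, ih]
      refine LinearMap.ext fun a => funext fun h => ?_
      simp only [T, Module.End.mul_apply, transl_apply, pow_succ, ← mul_assoc]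
  have hgen : ∀ b : G₀, ∃ n : ℕ, σ ^ n = b := fun b => ⟨b.toAdd.val, by
    simp only [σ, ← ofAdd_nsmul, nsmul_one, ZMod.natCast_zmod_val]; rfl⟩
  have key : ∀ r : ℕ, ∀ a, (D ^ r) a = 0 → a ∈ socFil k (ConstGrp.F k G₀) r := fun r => by
    induction r with
    | zero => intro a ha; simpa [socFil] using ha
    | succ r ih =>
      intro a ha
      refine mem_socFil_succ.2 fun g hg => ih _ ?_
      have h0 : ∑ b : G₀, g (ConstGrp.e k b) = 0 := by rw [← map_sum, ConstGrp.sum_e, hg]
      have h1 : hit (V := ConstGrp.F k G₀) g = ∑ b : G₀, g (ConstGrp.e k b) • (transl p k b - 1 : Module.End k _) := by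
        rw [hit_constGrp]
        simp only [smul_sub, Finset.sum_sub_distrib, ← Finset.sum_smul, h0, zero_smul, sub_zero]
      rw [h1, LinearMap.sum_apply, map_sum]
      refine Finset.sum_eq_zero fun b _ => ?_
      obtain ⟨n, rfl⟩ := hgen b
      rw [LinearMap.smul_apply, map_smul, ← hpow, ← geom_sum_mul T n]
      show _ • ((D ^ r) * ((∑ i ∈ Finset.range n, T ^ i) * D)) a = 0
      have hc : Commute (D ^ r) (∑ i ∈ Finset.range n, T ^ i) :=
        Commute.sum_right _ _ _ fun i _ => (((Commute.refl T).sub_left (Commute.one_left T)).pow_left r).pow_right i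
      rw [← mul_assoc, hc.eq, mul_assoc, ← pow_succ, Module.End.mul_apply, ha, map_zero, smul_zero]
  have hD : D ^ p = 0 := by
    haveI : Nontrivial (ConstGrp.F k G₀) := ⟨⟨0, 1, fun h => zero_ne_one (congrFun h 1)⟩⟩
    haveI : CharP (Module.End k (ConstGrp.F k G₀)) p :=
      charP_of_injective_algebraMap' k p
    rw [sub_pow_char_of_commute (p := p) (Commute.one_right T), one_pow, hpow, sub_eq_zero]
    have : σ ^ p = 1 := by
      simp only [σ, ← ofAdd_nsmul, nsmul_one, ZMod.natCast_self]; rfl
    rw [this]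
    exact LinearMap.ext fun a => funext fun h => by rw [transl_apply, mul_one]; rfl
  refine isUnipotent_iff_forall_mem_socFil.2 fun a => ⟨p, socFil_mono (Nat.le_succ p) (key p a ?_)⟩
  rw [hD]; rfl

end Groth.Agent.UnipP26
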